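import Mathlib
import Groth.Prelude.Def_PP16
import Groth.Prelude.Def_CAlgX
import Groth.Agent.H26.QuasiOps
import Groth.Agent.Lib.SymGr.Core

/-!
# Charts for quasi-regular ideals
-/

set_option autoImplicit false
set_option backward.isDefEq.respectTransparency false
universe u

open MvPolynomial
open Groth.Agent.Lib.SymGr.Core

namespace Groth.Agent.H80.PP.Chart

variable {R : Type u} [CommRing R] (J : Ideal R)

/-- `f` generates `J` and is quasi-regular, up to powers of `g`. -/
structure Chart (g : R) {r : ℕ} (f : Fin r → R) : Prop where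
  mem : ∀ i, f i ∈ J
  gen : ∀ x ∈ J, ∃ N : ℕ, g ^ N * x ∈ Ideal.span (Set.range f)
  qr : ∀ (n : ℕ) (Q : MvPolynomial (Fin r) R), Q.IsHomogeneous n → eval f Q ∈ J ^ (n + 1) →
    ∀ d, ∃ N : ℕ, g ^ N * Q.coeff d ∈ J

variable {J} {g : R} {r : ℕ} {f : Fin r → R}

lemma mem_map_iff (I : Ideal R) (x : R) :
    algebraMap R (Localization.Away g) x ∈ I.map (algebraMap R (Localization.Away g)) ↔
      ∃ N : ℕ, g ^ N * x ∈ I := by
  rw [IsLocalization.algebraMap_mem_map_algebraMap_iff (Submonoid.powers g)]
  constructor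
  · rintro ⟨_, ⟨N, rfl⟩, h⟩
    exact ⟨N, h⟩
  · rintro ⟨N, h⟩
    exact ⟨g ^ N, ⟨N, rfl⟩, h⟩

lemma map_span (f : Fin r → R) :
    (Ideal.span (Set.range f)).map (algebraMap R (Localization.Away g)) =
      Ideal.span (Set.range (algebraMap R (Localization.Away g) ∘ f)) := by
  rw [Ideal.map_span, ← Set.range_comp]

lemma Chart.map_eq (h : Chart J g f) :
    Ideal.span (Set.range (algebraMap R (Localization.Away g) ∘ f)) =
      J.map (algebraMap R (Localization.Away g)) := by
  rw [← map_span]
  refine le_antisymm (Ideal.map_mono (Ideal.span_le.mpr (Set.range_subset_iff.mpr h.mem))) ?_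
  rw [Ideal.map_le_iff_le_comap]
  intro x hx
  exact (mem_map_iff _ x).mpr (h.gen x hx)

lemma Chart.isQuasiRegular (h : Chart J g f) :
    CAlgX.IsQuasiRegular (algebraMap R (Localization.Away g) ∘ f) := by
  classical
  intro n P hP heval d
  set L := Localization.Away g
  set φ := algebraMap R L
  -- clear denominators
  obtain ⟨⟨_, N₀, rfl⟩, hs⟩ := IsLocalization.exist_integer_multiples (Submonoid.powers g) P.support P.coeff
  choose! c hc using hs
  let Q : MvPolynomial (Fin r) R := ∑ e ∈ P.support, monomial e (c e)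
  have hQhom : Q.IsHomogeneous n := IsHomogeneous.sum _ _ _ fun e he =>
    isHomogeneous_monomial _ (by
      by_contra hne
      exact mem_support_iff.mp he (hP.coeff_eq_zero hne))
  have hQ : MvPolynomial.map φ Q = C (φ (g ^ N₀)) * P := by
    conv_rhs => rw [P.as_sum, Finset.mul_sum]
    rw [map_sum]
    refine Finset.sum_congr rfl fun e he => ?_
    rw [map_monomial, C_mul_monomial, hc e he, Algebra.smul_def]
  have hev : φ (eval f Q) ∈ (J ^ (n + 1)).map φ := by
    rw [show φ (eval f Q) = eval₂ φ (φ ∘ f) Q from eval₂_comp_left φ (RingHom.id R) f Q,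
      ← eval_map, hQ, map_mul, eval_C, Ideal.map_pow, ← h.map_eq]
    exact Ideal.mul_mem_left _ _ heval
  obtain ⟨M, hM⟩ := (mem_map_iff _ _).mp hev
  obtain ⟨K, hK⟩ := h.qr n (C (g ^ M) * Q) (hQhom.C_mul _)
    (by rwa [map_mul, eval_C]) d
  rw [coeff_C_mul] at hK
  rw [h.map_eq]
  have hd : φ (Q.coeff d) = φ (g ^ N₀) * P.coeff d := by
    rw [← coeff_map, hQ, coeff_C_mul]
  have h1 : φ (g ^ K * (g ^ M * Q.coeff d)) ∈ J.map φ := Ideal.mem_map_of_mem _ hK
  rw [map_mul, map_mul, hd] at h1
  have hu : ∀ k : ℕ, IsUnit (φ (g ^ k)) := fun k =>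
    IsLocalization.map_units L (⟨g ^ k, k, rfl⟩ : Submonoid.powers g)
  rwa [Ideal.unit_mul_mem_iff_mem _ (hu K), Ideal.unit_mul_mem_iff_mem _ (hu M),
    Ideal.unit_mul_mem_iff_mem _ (hu N₀)] at h1

/-- A chart from quasi-regular generators of a localization. -/
theorem exists_chart (f' : Fin r → Localization.Away g) (hqr : CAlgX.IsQuasiRegular f')
    (hspan : Ideal.span (Set.range f') = J.map (algebraMap R (Localization.Away g))) :
    ∃ f : Fin r → R, Chart J g f := by
  classical
  let φ := algebraMap R (Localization.Away g)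
  have hex : ∀ i, ∃ a ∈ J, ∃ u : Localization.Away g, IsUnit u ∧ f' i * u = φ a := fun i => by
    obtain ⟨⟨⟨a, ha⟩, s⟩, hs⟩ := (IsLocalization.mem_map_algebraMap_iff (Submonoid.powers g) _).mp
      (hspan ▸ Ideal.subset_span ⟨i, rfl⟩ : f' i ∈ J.map φ)
    exact ⟨a, ha, φ s, IsLocalization.map_units _ s, hs⟩
  choose a ha u hu hau using hex
  have hsp : Ideal.span (Set.range (φ ∘ a)) = Ideal.span (Set.range f') := by
    refine le_antisymm (Ideal.span_le.mpr ?_) (Ideal.span_le.mpr ?_)
    · rintro _ ⟨i, rfl⟩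
      show φ (a i) ∈ _
      rw [← hau]
      exact Ideal.mul_mem_right _ _ (Ideal.subset_span ⟨i, rfl⟩)
    · rintro _ ⟨i, rfl⟩
      rw [SetLike.mem_coe, ← Ideal.mul_unit_mem_iff_mem _ (hu i), hau]
      exact Ideal.subset_span ⟨i, rfl⟩
  have hqa := Groth.Agent.H26.QuasiOps.span_eq f' (φ ∘ a) hqr hsp
  refine ⟨a, ha, fun x hx => ?_, fun n Q hQ hev d => ?_⟩
  · refine (mem_map_iff _ x).mp ?_
    rw [map_span, hsp, hspan]
    exact Ideal.mem_map_of_mem _ hx
  · refine (mem_map_iff _ _).mp ?_
    have h1 : eval (φ ∘ a) (MvPolynomial.map φ Q) ∈ Ideal.span (Set.range (φ ∘ a)) ^ (n + 1) := by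
      rw [hsp, hspan, ← Ideal.map_pow, eval_map,
        show eval₂ φ (φ ∘ a) Q = φ (eval a Q) from (eval₂_comp_left φ (RingHom.id R) a Q).symm]
      exact Ideal.mem_map_of_mem _ hev
    have h2 := hqa n _ (hQ.map φ) h1 d
    rwa [coeff_map, hsp, hspan] at h2

variable (J)

/-- The multilinear product map to the graded piece. -/
theorem exists_phiJ (ι : Type u) [Fintype ι] :
    ∃ φ : SymmetricPower R ι J.Cotangent →ₗ[R] PP16.grJ R J (Fintype.card ι),
      ∀ x : ι → J, φ (SymmetricPower.tprod R (fun i => J.toCotangent (x i))) =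
        PP16.zetaJ R J x := by
  classical
  let F : (ι → J) → PP16.grJ R J (Fintype.card ι) := fun x => PP16.zetaJ R J x
  have hF : ∀ x y : ι → J, (∀ i, J.toCotangent (x i) = J.toCotangent (y i)) → F x = F y := by
    intro x y h
    refine (Submodule.Quotient.eq _).mpr ?_
    rw [Submodule.mem_comap, Submodule.coe_subtype, AddSubgroupClass.coe_sub]
    have := prod_sub_prod_mem J Finset.univ (fun i => (x i : R)) (fun i => (y i : R))
      (fun i _ => (x i).2) (fun i _ => (y i).2) (fun i _ => (J.toCotangent_eq).mp (h i))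
    rwa [Finset.card_univ] at this
  choose ρ hρ using fun ω : J.Cotangent => J.toCotangent_surjective ω
  let m : MultilinearMap R (fun _ : ι => J.Cotangent) (PP16.grJ R J (Fintype.card ι)) :=
    MultilinearMap.mk' (fun v => F fun i => ρ (v i))
      (fun v i x y => by
        show F (fun j => ρ (Function.update v i (x + y) j)) =
          F (fun j => ρ (Function.update v i x j)) + F (fun j => ρ (Function.update v i y j))
        rw [hF (fun j => ρ (Function.update v i (x + y) j))
          (Function.update (fun j => ρ (v j)) i (ρ x + ρ y)) fun j => by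
            by_cases hj : j = i
            · subst hj
              simp only [Function.update_self, map_add, hρ]
            · simp [Function.update_of_ne hj]]
        simp only [F, PP16.zetaJ]
        rw [← Submodule.Quotient.mk_add]
        congr 1
        refine Subtype.ext ?_
        show _ = _ + _
        simp only [Function.apply_update (fun _ => ρ) v, Function.apply_update (fun _ (z : J) => (z : R)),
          Finset.prod_update_of_mem (Finset.mem_univ i), Submodule.coe_add, add_mul])
      (fun v i c x => by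
        show F (fun j => ρ (Function.update v i (c • x) j)) =
          c • F (fun j => ρ (Function.update v i x j))
        rw [hF (fun j => ρ (Function.update v i (c • x) j))
          (Function.update (fun j => ρ (v j)) i (c • ρ x)) fun j => by
            by_cases hj : j = i
            · subst hj
              simp only [Function.update_self, map_smul, hρ]
            · simp [Function.update_of_ne hj]]
        simp only [F, PP16.zetaJ]
        rw [← Submodule.Quotient.mk_smul]
        congr 1
        refine Subtype.ext ?_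
        show _ = c • _
        simp only [Function.apply_update (fun _ => ρ) v, Function.apply_update (fun _ (z : J) => (z : R)),
          Finset.prod_update_of_mem (Finset.mem_univ i), Submodule.coe_smul, smul_eq_mul, mul_assoc])
  refine ⟨symLift m fun e v => ?_, fun x => ?_⟩
  · show F (fun i => ρ (v (e i))) = F fun i => ρ (v i)
    simp only [F, PP16.zetaJ]
    congr 1
    exact Subtype.ext (Equiv.prod_comp e fun i => (ρ (v i) : R))
  · rw [symLift_tprod]
    exact hF _ _ fun i => hρ _

theorem phiJ_surjective {ι : Type u} [Fintype ι]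
    (φ : SymmetricPower R ι J.Cotangent →ₗ[R] PP16.grJ R J (Fintype.card ι))
    (hφ : ∀ x : ι → J, φ (SymmetricPower.tprod R (fun i => J.toCotangent (x i))) =
      PP16.zetaJ R J x) : Function.Surjective φ := by
  classical
  intro y
  obtain ⟨⟨y, hy⟩, rfl⟩ := Submodule.Quotient.mk_surjective _ y
  have hgen : J ^ Fintype.card ι ≤ Ideal.span (Set.range fun x : ι → J => ∏ i, (x i : R)) := by
    conv_lhs => rw [← Ideal.span_eq J]
    rw [Ideal.span, Submodule.span_pow]
    refine Submodule.span_mono fun a ha => ?_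
    obtain ⟨k, rfl⟩ := Set.mem_pow.1 ha
    refine ⟨fun i => k (Fintype.equivFin ι i), ?_⟩
    rw [List.prod_ofFn]
    exact Equiv.prod_comp (Fintype.equivFin ι) fun i => (k i : R)
  have hmem : ∀ x : ι → J, ∏ i, (x i : R) ∈ J ^ Fintype.card ι := fun x => by
    rw [← Finset.card_univ, ← Finset.prod_const]
    exact Ideal.prod_mem_prod fun i _ => (x i).2
  have hspanle : Ideal.span (Set.range fun x : ι → J => ∏ i, (x i : R)) ≤ J ^ Fintype.card ι :=
    Ideal.span_le.mpr (Set.range_subset_iff.mpr hmem)
  suffices ∀ z, ∀ hz : z ∈ Ideal.span (Set.range fun x : ι → J => ∏ i, (x i : R)),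
      (Submodule.Quotient.mk ⟨z, hspanle hz⟩ : PP16.grJ R J (Fintype.card ι)) ∈
        LinearMap.range φ from this y (hgen hy)
  intro z hz
  induction hz using Submodule.span_induction with
  | mem x hx => obtain ⟨x, rfl⟩ := hx; exact ⟨_, hφ x⟩
  | zero => exact zero_mem (LinearMap.range φ)
  | add x x' hx hx' ihx ihx' => exact add_mem ihx ihx'
  | smul c x hx ih => exact Submodule.smul_mem _ c ih

/-- The symmetric tensors attached to polynomials. -/
theorem exists_T (f : Fin r → J) (ι : Type u) [Fintype ι]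
    (φ : SymmetricPower R ι J.Cotangent →ₗ[R] PP16.grJ R J (Fintype.card ι))
    (hφ : ∀ x : ι → J, φ (SymmetricPower.tprod R (fun i => J.toCotangent (x i))) =
      PP16.zetaJ R J x) :
    ∃ T : MvPolynomial (Fin r) R →ₗ[R] SymmetricPower R ι J.Cotangent,
      (∀ h : ι → Fin r, T (∏ i, X (h i)) = SymmetricPower.tprod R (fun i => J.toCotangent (f (h i)))) ∧
      ∀ Q : MvPolynomial (Fin r) R, Q.IsHomogeneous (Fintype.card ι) →
        ∀ hy : eval (fun i => (f i : R)) Q ∈ J ^ Fintype.card ι,
          φ (T Q) = Submodule.Quotient.mk ⟨eval (fun i => (f i : R)) Q, hy⟩ := by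
  classical
  let F : (Fin r →₀ ℕ) → SymmetricPower R ι J.Cotangent := fun d =>
    if h : ∃ h : ι → Fin r, ∑ i, Finsupp.single (h i) 1 = d then
      SymmetricPower.tprod R (fun i => J.toCotangent (f (h.choose i))) else 0
  let T := (MvPolynomial.basisMonomials (Fin r) R).constr R F
  have hT : ∀ d, T (monomial d 1) = F d := fun d => by
    have h := (MvPolynomial.basisMonomials (Fin r) R).constr_basis R F d
    rwa [MvPolynomial.coe_basisMonomials] at h
  have hTX : ∀ h : ι → Fin r,
      T (∏ i, X (h i)) = SymmetricPower.tprod R (fun i => J.toCotangent (f (h i))) := fun h => by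
    have hh : ∃ h' : ι → Fin r, ∑ i, Finsupp.single (h' i) 1 = ∑ i, Finsupp.single (h i) 1 := ⟨h, rfl⟩
    rw [show ∏ i, (X (h i) : MvPolynomial (Fin r) R) = monomial (∑ i, Finsupp.single (h i) 1) 1 from
      (monomial_sum_one _ _).symm, hT]
    obtain ⟨e, he⟩ := exists_perm_of_sum_single_eq h hh.choose hh.choose_spec.symm
    simp only [F, dif_pos hh]
    rw [← SymmetricPower.tprod_equiv e]
    exact congr_arg _ (funext fun i => congrArg (fun k => J.toCotangent (f k)) (he i))
  refine ⟨T, hTX, fun Q hQ hy => ?_⟩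
  have hrep : ∀ d ∈ Q.support, ∃ h : ι → Fin r, ∑ i, Finsupp.single (h i) 1 = d := fun d hd => by
    have hdeg : Finsupp.degree d = Fintype.card ι := by
      by_contra hne
      exact mem_support_iff.mp hd (hQ.coeff_eq_zero hne)
    have hc : Multiset.card (Finsupp.toMultiset d) = Fintype.card ι := by
      rw [Finsupp.card_toMultiset, ← hdeg]
      rfl
    obtain ⟨l, hl⟩ : ∃ l : List (Fin r), (l : Multiset (Fin r)) = Finsupp.toMultiset d :=
      Quot.exists_rep _
    have hlen : l.length = Fintype.card ι := by rw [← hc, ← hl]; rfl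
    let e : ι ≃ Fin l.length := (Fintype.equivFin ι).trans (finCongr hlen.symm)
    refine ⟨fun i => l.get (e i), ?_⟩
    rw [Equiv.sum_comp e fun k => Finsupp.single (l.get k) 1]
    rw [← Finsupp.toMultiset_toFinsupp d, ← Finsupp.toMultiset_toFinsupp (∑ i, Finsupp.single _ _)]
    congr 1
    rw [← hl, map_sum]
    simp only [Finsupp.toMultiset_single, one_nsmul]
    rw [← List.sum_ofFn, show List.ofFn (fun k => ({l.get k} : Multiset (Fin r))) = l.map ({·}) from
      List.ext_getElem (by simp) (by simp)]
    clear hl hlen e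
    induction l with
    | nil => simp
    | cons a l ih => rw [List.map_cons, List.sum_cons, ih, ← Multiset.cons_coe, Multiset.singleton_add]
  choose h hh using fun d : Q.support => hrep d.1 d.2
  have hQs : Q = ∑ d : Q.support, Q.coeff d.1 • ∏ i, X (h d i) := by
    conv_lhs => rw [Q.as_sum, ← Finset.sum_coe_sort]
    refine Finset.sum_congr rfl fun d _ => ?_
    rw [show ∏ i, (X (h d i) : MvPolynomial (Fin r) R) = monomial (∑ i, Finsupp.single (h d i) 1) 1 from
      (monomial_sum_one _ _).symm, hh d, smul_monomial, smul_eq_mul, mul_one]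
  conv_lhs => rw [hQs]
  simp only [map_sum, map_smul, hTX, hφ, PP16.zetaJ, ← Submodule.Quotient.mk_smul]
  simp only [← Submodule.mkQ_apply]
  rw [← map_sum]
  congr 1
  refine Subtype.ext ?_
  rw [AddSubmonoidClass.coe_finsetSum]
  show _ = eval _ Q
  conv_rhs => rw [hQs]
  simp [map_sum, map_prod, smul_eval]

variable {J}

/-- Vanishing of `g`-multiples of tensors killed by `φ`. -/
theorem Chart.kill (h : Chart J g f) {ι : Type u} [Fintype ι] [Nonempty ι]
    (φ : SymmetricPower R ι J.Cotangent →ₗ[R] PP16.grJ R J (Fintype.card ι))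
    (hφ : ∀ x : ι → J, φ (SymmetricPower.tprod R (fun i => J.toCotangent (x i))) =
      PP16.zetaJ R J x) (t : SymmetricPower R ι J.Cotangent) (ht : φ t = 0) :
    ∃ N : ℕ, g ^ N • t = 0 := by
  classical
  let fJ : Fin r → J := fun i => ⟨f i, h.mem i⟩
  obtain ⟨T, hT, hTφ⟩ := exists_T J fJ ι φ hφ
  -- write a multiple as a polynomial
  have hpol : ∀ s : SymmetricPower R ι J.Cotangent, ∃ (N : ℕ) (Q : MvPolynomial (Fin r) R),
      Q.IsHomogeneous (Fintype.card ι) ∧ g ^ N • s = T Q := by
    intro s
    have hs : s ∈ Submodule.span R (Set.range (SymmetricPower.tprod R (ι := ι) (M := J.Cotangent))) := by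
      rw [SymmetricPower.span_tprod_eq_top]
      trivial
    induction hs using Submodule.span_induction with
    | mem x hx =>
      obtain ⟨v, rfl⟩ := hx
      choose x hx using fun i => J.toCotangent_surjective (v i)
      choose N hN using fun i => h.gen (x i) (x i).2
      choose c hc using fun i => (Ideal.mem_span_range_iff_exists_fun).mp (hN i)
      refine ⟨∑ i, N i, ∑ k : ι → Fin r, (∏ i, c i (k i)) • ∏ i, X (k i), ?_, ?_⟩
      · refine IsHomogeneous.sum _ _ _ fun k _ => ?_
        rw [smul_eq_C_mul]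
        refine IsHomogeneous.C_mul ?_ _
        have := IsHomogeneous.prod Finset.univ (fun i => (X (k i) : MvPolynomial (Fin r) R))
          (fun _ => 1) fun i _ => isHomogeneous_X R (k i)
        simpa using this
      · rw [map_sum, ← Finset.prod_pow_eq_pow_sum, ← MultilinearMap.map_smul_univ]
        have : (fun i => g ^ N i • v i) = fun i => ∑ k, c i k • J.toCotangent (fJ k) := funext fun i => by
          rw [← hx, ← map_smul]
          simp only [← map_smul, ← map_sum]
          congr 1
          refine Subtype.ext ?_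
          rw [Submodule.coe_smul, smul_eq_mul, ← hc, Submodule.coe_sum]
          simp [fJ]
        rw [this, MultilinearMap.map_sum_finset]
        simp only [Fintype.piFinset_univ]
        refine Finset.sum_congr rfl fun k _ => ?_
        rw [MultilinearMap.map_smul_univ, map_smul, hT]
    | zero => exact ⟨0, 0, isHomogeneous_zero _ _ _, by simp⟩
    | add x y _ _ hx hy =>
      obtain ⟨N, Q, hQ, hx⟩ := hx
      obtain ⟨M, P, hP, hy⟩ := hy
      refine ⟨N + M, C (g ^ M) * Q + C (g ^ N) * P, (hQ.C_mul _).add (hP.C_mul _), ?_⟩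
      rw [map_add, ← smul_eq_C_mul, ← smul_eq_C_mul, map_smul, map_smul, ← hx, ← hy, smul_smul,
        smul_smul, smul_add, ← pow_add, ← pow_add, add_comm M N]
    | smul a x _ hx =>
      obtain ⟨N, Q, hQ, hx⟩ := hx
      exact ⟨N, a • Q, by rw [smul_eq_C_mul]; exact hQ.C_mul _,
        by rw [map_smul, ← hx, smul_comm]⟩
  obtain ⟨N, Q, hQ, hQt⟩ := hpol t
  have hy : eval (fun i => (fJ i : R)) Q ∈ J ^ Fintype.card ι := by
    rw [eval_eq]
    refine Ideal.sum_mem _ fun d hd => Ideal.mul_mem_left _ _ ?_
    have hdeg : Finsupp.degree d = Fintype.card ι := by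
      by_contra hne
      exact mem_support_iff.mp hd (hQ.coeff_eq_zero hne)
    rw [← hdeg, Finsupp.degree_apply, ← Finset.prod_pow_eq_pow_sum]
    exact Ideal.prod_mem_prod fun i _ => Ideal.pow_mem_pow (fJ i).2 _
  have h0 := hTφ Q hQ hy
  rw [← hQt, map_smul, ht, smul_zero, eq_comm, Submodule.Quotient.mk_eq_zero] at h0
  have hM : ∀ d, ∃ M : ℕ, g ^ M * Q.coeff d ∈ J := h.qr _ Q hQ h0
  choose M hM using hM
  refine ⟨(Q.support.sup M) + N, ?_⟩
  rw [pow_add, mul_smul, hQt]
  refine (congrArg (fun P => g ^ Q.support.sup M • T P) Q.as_sum).trans ?_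
  rw [map_sum, Finset.smul_sum]
  refine Finset.sum_eq_zero fun d hd => ?_
  rw [← map_smul, smul_monomial, ← mul_one (g ^ Q.support.sup M • Q.coeff d), ← smul_eq_mul,
    ← smul_monomial, map_smul]
  refine smul_eq_zero_of_ker (C := R ⧸ J) _ ?_ _
  rw [Ideal.Quotient.algebraMap_eq, Ideal.Quotient.eq_zero_iff_mem, smul_eq_mul,
    show Q.support.sup M = (Q.support.sup M - M d) + M d by
      have := Finset.le_sup (f := M) hd; omega, pow_add, mul_assoc]
  exact Ideal.mul_mem_left _ _ (hM d)

end Groth.Agent.H80.PP.Chart
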