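import Groth.Agent.Lib.DiffOp.Coordinates
import Groth.Agent.S3819
import Mathlib.LinearAlgebra.SymmetricAlgebra.Basis

/-!
# Coordinates, principal parts and divided power operators
-/

set_option autoImplicit false
set_option backward.isDefEq.respectTransparency false
universe u

open MvPolynomial
open scoped TensorProduct
open Groth.Agent.Lib.DiffOp.Coordinates Groth.Agent.Lib.DiffOp
open Groth.Agent.Lib.SymGr.Core

namespace Groth.Agent.H80.PP.Coord

variable {A B : Type u} [CommRing A] [CommRing B] [Algebra A B] {n : ℕ} {z : Fin n → B}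

/-- The powers of the coordinates are independent in the principal parts. -/
def Indep (A : Type u) {B : Type u} [CommRing A] [CommRing B] [Algebra A B] {n : ℕ}
    (z : Fin n → B) : Prop :=
  ∀ (N : ℕ) (w : MvPolynomial (Fin n) B), aeval (xi A z) w ∈ KaehlerDifferential.ideal A B ^ N →
    w ∈ idealOfVars (Fin n) B ^ N

theorem lmul_aeval (q : MvPolynomial (Fin n) B) :
    Algebra.TensorProduct.lmul' A (aeval (xi A z) q) = constantCoeff q := by
  induction q using MvPolynomial.induction_on with
  | C c => simp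
  | add a c ha hc => simp only [map_add, ha, hc]
  | mul_X q i hq => simp [xi, map_sub]

theorem mem_idealOfVars_iff {w : MvPolynomial (Fin n) B} :
    w ∈ idealOfVars (Fin n) B ↔ constantCoeff w = 0 := by
  rw [← pow_one (idealOfVars (Fin n) B), mem_pow_idealOfVars_iff']
  refine ⟨fun h => h 0 (by simp), fun h d hd => ?_⟩
  rw [(Finsupp.degree_eq_zero_iff d).1 (Nat.lt_one_iff.1 hd)]
  exact h

section span

variable (hspan : Submodule.span B (Set.range fun i => KaehlerDifferential.D A B (z i)) = ⊤)
include hspan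

theorem pow_step' (j : ℕ) : ∀ x ∈ KaehlerDifferential.ideal A B ^ j,
    ∃ p ∈ idealOfVars (Fin n) B ^ j,
      x - aeval (xi A z) p ∈ KaehlerDifferential.ideal A B ^ (j + 1) := by
  induction j with
  | zero =>
      intro x _
      refine ⟨C (Algebra.TensorProduct.lmul' A x), by simp, ?_⟩
      rw [pow_one, aeval_C]
      exact sub_mul_one_mem x
  | succ j ih =>
      intro x hx
      rw [pow_succ] at hx
      induction hx using Submodule.mul_induction_on' with
      | mem_mul_mem r hr s hs =>
          obtain ⟨p, hpM, hp⟩ := ih r hr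
          obtain ⟨q, hq⟩ := ideal_step hspan hs
          have hqM : q ∈ idealOfVars (Fin n) B := by
            rw [mem_idealOfVars_iff, ← lmul_aeval (A := A) (z := z), ← sub_sub_cancel s (aeval (xi A z) q),
              map_sub]
            have h1 : Algebra.TensorProduct.lmul' A s = 0 := hs
            have h2 : Algebra.TensorProduct.lmul' A (s - aeval (xi A z) q) = 0 :=
              Ideal.pow_le_self two_ne_zero hq
            rw [h1, h2, sub_zero]
          refine ⟨p * q, by rw [pow_succ]; exact Ideal.mul_mem_mul hpM hqM, ?_⟩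
          rw [map_mul, show r * s - aeval (xi A z) p * aeval (xi A z) q =
            (r - aeval (xi A z) p) * s + aeval (xi A z) p * (s - aeval (xi A z) q) by ring]
          refine Ideal.add_mem _ ?_ ?_
          · rw [pow_succ]
            exact Ideal.mul_mem_mul hp hs
          · rw [show j + 1 + 1 = j + 2 from rfl, pow_add]
            exact Ideal.mul_mem_mul (aeval_xi_mem hpM) hq
      | add a _ b _ ha hb =>
          obtain ⟨p, hpM, hp⟩ := ha
          obtain ⟨q, hqM, hq⟩ := hb
          exact ⟨p + q, add_mem hpM hqM,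
            by rw [map_add, add_sub_add_comm]; exact Ideal.add_mem _ hp hq⟩

theorem exists_poly' (j k : ℕ) : ∀ x ∈ KaehlerDifferential.ideal A B ^ j,
    ∃ p ∈ idealOfVars (Fin n) B ^ j,
      x - aeval (xi A z) p ∈ KaehlerDifferential.ideal A B ^ (j + k) := by
  induction k with
  | zero => exact fun x hx => ⟨0, zero_mem _, by simpa using hx⟩
  | succ k ih =>
    intro x hx
    obtain ⟨p, hpM, hp⟩ := ih x hx
    obtain ⟨q, hqM, hq⟩ := pow_step' hspan (j + k) _ hp
    exact ⟨p + q, add_mem hpM (Ideal.pow_le_pow_right (Nat.le_add_right j k) hqM),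
      by rw [map_add, ← sub_sub]; exact hq⟩

omit hspan in
theorem linearize_smul (D : B →ₗ[A] B) (c : B) (x : B ⊗[A] B) :
    Diff16.linearize A B B B D (c • x) = c * Diff16.linearize A B B B D x := by
  induction x using TensorProduct.induction_on with
  | zero => simp
  | tmul a b => simp [TensorProduct.smul_tmul', Basic.linearize_tmul, mul_assoc]
  | add a b ha hb => rw [smul_add, map_add, ha, hb, map_add, mul_add]

omit hspan

theorem aeval_shift (z : Fin n → B) (w : MvPolynomial (Fin n) B) :
    aeval (fun i => C (z i) + X i) (aeval (fun i => X i - C (z i)) w) = w := by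
  rw [← AlgHom.comp_apply, comp_aeval]
  simp [aeval_X_left]

/-- The linearization of a divided power operator is a coefficient. -/
theorem linearize_eq_coeff {D : B →ₗ[A] B} (p : Fin n → ℕ)
    (hD : ∀ q : Fin n → ℕ, D (∏ i, z i ^ q i) =
      ((∏ i, Nat.choose (q i) (p i) : ℕ) : B) * ∏ i, z i ^ (q i - p i))
    (w : MvPolynomial (Fin n) B) :
    Diff16.linearize A B B B D (aeval (xi A z) w) = coeff (Finsupp.equivFunOnFinite.symm p) w := by
  rw [← aeval_shift z w]
  generalize aeval (fun i => X i - C (z i)) w = v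
  induction v using MvPolynomial.induction_on' with
  | add a b ha hb => rw [map_add, map_add, map_add, ha, hb, coeff_add]
  | monomial d c =>
    have hd : monomial d c = c • ∏ i, (X i : MvPolynomial (Fin n) B) ^ d i := by
      rw [monomial_eq, smul_eq_C_mul, Finsupp.prod_fintype _ _ fun i => pow_zero _]
    have hval : aeval (xi A z) (∏ i, (C (z i) + X i) ^ d i : MvPolynomial (Fin n) B) =
        (1 : B) ⊗ₜ[A] ∏ i, z i ^ d i := by
      have : (1 : B) ⊗ₜ[A] ∏ i, z i ^ d i =
          (Algebra.TensorProduct.includeRight : B →ₐ[A] B ⊗[A] B) (∏ i, z i ^ d i) := rfl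
      rw [this]
      simp only [map_prod, map_pow, map_add, aeval_C, aeval_X]
      refine Finset.prod_congr rfl fun i _ => ?_
      congr 1
      simp [xi]
    rw [hd, map_smul, map_prod, map_smul, linearize_smul]
    simp only [map_pow, aeval_X, coeff_smul, smul_eq_mul]
    rw [hval, Basic.linearize_tmul, one_smul, hD, coeff_binom]

include hspan

/-- Operators of finite order with the binomial values have the expected order, and force the
coordinates to be independent. -/
theorem of_operators {Dp : (Fin n → ℕ) → (B →ₗ[A] B)}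
    (hD : ∀ p, ∃ k : ℕ, Diff16.IsDiffOpLE A B B B k (Dp p))
    (hDz : ∀ p q : Fin n → ℕ, Dp p (∏ i, z i ^ q i) =
      ((∏ i, Nat.choose (q i) (p i) : ℕ) : B) * ∏ i, z i ^ (q i - p i)) :
    Indep A z ∧ ∀ p, Diff16.IsDiffOpLE A B B B (∑ i, p i) (Dp p) := by
  have hord : ∀ p, Diff16.IsDiffOpLE A B B B (∑ i, p i) (Dp p) := by
    intro p
    obtain ⟨k, hk⟩ := hD p
    refine Basic.of_linearize_vanish fun x hx => ?_
    obtain ⟨w, hwM, hw⟩ := exists_poly' hspan _ (k + 1) x hx
    have h1 := Basic.linearize_vanish hk _ (Ideal.pow_le_pow_right (Nat.le_add_left _ _) hw)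
    rw [map_sub, linearize_eq_coeff p (hDz p), sub_eq_zero] at h1
    rw [h1, (mem_pow_idealOfVars_iff' _ _).1 hwM _ (by simp [Finsupp.degree_eq_sum])]
  refine ⟨fun N w hw => (mem_pow_idealOfVars_iff' _ _).2 fun d hd => ?_, hord⟩
  have h1 := Basic.linearize_vanish (hord (d : Fin n → ℕ)) (aeval (xi A z) w)
    (Ideal.pow_le_pow_right (by rw [Finsupp.degree_eq_sum] at hd; omega) hw)
  rw [linearize_eq_coeff _ (hDz _)] at h1
  simpa using h1

/-- Existence of the divided power operators. -/
theorem exists_operator' (hind : Indep A z) (p : Fin n → ℕ) :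
    ∃ D : B →ₗ[A] B, Diff16.IsDiffOpLE A B B B (∑ i, p i) D ∧ ∀ q : Fin n → ℕ,
      D (∏ i, z i ^ q i) =
        ((∏ i, Nat.choose (q i) (p i) : ℕ) : B) * ∏ i, z i ^ (q i - p i) := by
  classical
  set k := ∑ i, p i with hk
  set I := KaehlerDifferential.ideal A B ^ (k + 1) with hI
  let Φ : MvPolynomial (Fin n) B →ₗ[B] (B ⊗[A] B) ⧸ I :=
    ((Ideal.Quotient.mkₐ B I).comp (aeval (xi A z))).toLinearMap
  have hΦ : Function.Surjective Φ := fun y => by
    obtain ⟨y, rfl⟩ := Ideal.Quotient.mk_surjective y
    obtain ⟨w, hw⟩ := exists_poly hspan (k + 1) y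
    exact ⟨w, (Ideal.Quotient.eq.2 hw).symm⟩
  have hker : LinearMap.ker Φ ≤ LinearMap.ker (lcoeff B (Finsupp.equivFunOnFinite.symm p)) := by
    intro w hw
    have := hind _ w (Ideal.Quotient.eq_zero_iff_mem.1 hw)
    exact (mem_pow_idealOfVars_iff' _ _).1 this _ (by simp [Finsupp.degree_eq_sum, hk])
  let χ : (B ⊗[A] B) ⧸ I →ₗ[B] B :=
    (LinearMap.ker Φ).liftQ _ hker ∘ₗ (Φ.quotKerEquivOfSurjective hΦ).symm.toLinearMap
  have hχ : ∀ w, χ (Φ w) = coeff (Finsupp.equivFunOnFinite.symm p) w := fun w => by
    have : (Φ.quotKerEquivOfSurjective hΦ).symm (Φ w) = Submodule.Quotient.mk w := by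
      rw [LinearEquiv.symm_apply_eq]
      rfl
    change (LinearMap.ker Φ).liftQ _ hker ((Φ.quotKerEquivOfSurjective hΦ).symm (Φ w)) = _
    rw [this]
    rfl
  let D : B →ₗ[A] B := χ.restrictScalars A ∘ₗ (Ideal.Quotient.mkₐ A I).toLinearMap ∘ₗ
    (Algebra.TensorProduct.includeRight : B →ₐ[A] B ⊗[A] B).toLinearMap
  have hlin : ∀ x, Diff16.linearize A B B B D x = χ (Ideal.Quotient.mk I x) := by
    intro x
    induction x using TensorProduct.induction_on with
    | zero => simp
    | tmul c e =>
        rw [Basic.linearize_tmul]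
        change c • χ (Ideal.Quotient.mk I ((1 : B) ⊗ₜ[A] e)) = _
        rw [← map_smul, ← Ideal.Quotient.mkₐ_eq_mk B, ← map_smul, TensorProduct.smul_tmul',
          smul_eq_mul, mul_one]
    | add u v hu hv => simp only [map_add, hu, hv]
  refine ⟨D, Basic.of_linearize_vanish fun x hx => ?_, fun q => ?_⟩
  · rw [hlin, Ideal.Quotient.eq_zero_iff_mem.2 hx, map_zero]
  · have hval : (Algebra.TensorProduct.includeRight : B →ₐ[A] B ⊗[A] B) (∏ i, z i ^ q i) =
        aeval (xi A z) (∏ i, (C (z i) + X i) ^ q i) := by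
      simp only [map_prod, map_pow, map_add, aeval_C, aeval_X]
      refine Finset.prod_congr rfl fun i _ => ?_
      congr 1
      simp [xi]
    rw [← coeff_binom]
    change χ (Ideal.Quotient.mk I ((Algebra.TensorProduct.includeRight : B →ₐ[A] B ⊗[A] B)
      (∏ i, z i ^ q i))) = _
    rw [hval]
    exact hχ _

/-- Independence gives a basis of the differentials. -/
theorem exists_basis (hind : Indep A z) :
    ∃ b : Module.Basis (Fin n) B (KaehlerDifferential A B),
      ∀ i, b i = KaehlerDifferential.D A B (z i) := by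
  classical
  have hli : LinearIndependent B fun i => KaehlerDifferential.D A B (z i) := by
    rw [Fintype.linearIndependent_iff]
    intro c hc i
    have h1 : aeval (xi A z) (∑ i, C (c i) * X i : MvPolynomial (Fin n) B) ∈
        KaehlerDifferential.ideal A B ^ 2 := by
      have h2 : (KaehlerDifferential.ideal A B).toCotangent
          (∑ i, c i • (⟨xi A z i, xi_mem i⟩ : KaehlerDifferential.ideal A B)) = 0 := by
        rw [map_sum]
        refine Eq.trans (Finset.sum_congr rfl fun i _ => ?_) hc
        rw [LinearMap.map_smul_of_tower]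
        rfl
      rw [Ideal.toCotangent_eq_zero] at h2
      convert h2 using 1
      rw [map_sum, AddSubmonoidClass.coe_finsetSum]
      refine Finset.sum_congr rfl fun i _ => ?_
      rw [map_mul, aeval_C, aeval_X, ← Algebra.smul_def]
      rfl
    have h3 := (mem_pow_idealOfVars_iff' _ _).1 (hind 2 _ h1) (Finsupp.single i 1) (by simp)
    simpa [coeff_sum, coeff_X, Finsupp.single_eq_single_iff, Finset.sum_ite_eq'] using h3
  exact ⟨Module.Basis.mk hli hspan.ge, fun i => Module.Basis.mk_apply _ _ i⟩

end span

/-- The symmetric products as homogeneous polynomials. -/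
theorem exists_theta (b : Module.Basis (Fin n) B (KaehlerDifferential A B))
    (hb : ∀ i, b i = KaehlerDifferential.D A B (z i)) (ι : Type u) [Fintype ι]
    (φ : SymmetricPower B ι (KaehlerDifferential A B) →ₗ[B] _root_.PP16.grI A B (Fintype.card ι))
    (hφ : ∀ c : ι → B, φ (SymmetricPower.tprod B (fun i => KaehlerDifferential.D A B (c i))) =
      _root_.PP16.zetaProd A B c) (t : SymmetricPower B ι (KaehlerDifferential A B)) :
    ∃ y : ↥((KaehlerDifferential.ideal A B ^ Fintype.card ι).restrictScalars B),
      φ t = Submodule.Quotient.mk y ∧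
        aeval (xi A z) (SymmetricAlgebra.equivMvPolynomial b
          (prodMap B B (KaehlerDifferential A B) ι t)) = (y : B ⊗[A] B) := by
  classical
  have hspan := span_eq_top_of_basis b hb
  have h : t ∈ Submodule.span B (Set.range fun g : ι → Fin n =>
      SymmetricPower.tprod B fun i => KaehlerDifferential.D A B (z (g i))) := by
    have htop : (⊤ : Submodule B (SymmetricPower B ι (KaehlerDifferential A B))) ≤
        Submodule.span B (Set.range fun g : ι → Fin n =>
          SymmetricPower.tprod B fun i => KaehlerDifferential.D A B (z (g i))) := by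
      rw [← SymmetricPower.span_tprod_eq_top, Submodule.span_le]
      rintro _ ⟨v, rfl⟩
      have hv : ∀ i, ∃ c : Fin n → B, ∑ k, c k • KaehlerDifferential.D A B (z k) = v i := fun i =>
        (Submodule.mem_span_range_iff_exists_fun B).1 (hspan ▸ Submodule.mem_top)
      choose c hc using hv
      rw [← funext hc, MultilinearMap.map_sum_finset]
      refine Submodule.sum_mem _ fun g _ => ?_
      rw [MultilinearMap.map_smul_univ]
      exact Submodule.smul_mem _ _ (Submodule.subset_span ⟨g, rfl⟩)
    exact htop trivial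
  induction h using Submodule.span_induction with
  | mem x hx =>
    obtain ⟨g, rfl⟩ := hx
    refine ⟨⟨∏ i, ((1 : B) ⊗ₜ[A] z (g i) - z (g i) ⊗ₜ[A] (1 : B)), by
      rw [Submodule.restrictScalars_mem, ← Finset.card_univ, ← Finset.prod_const]
      exact Ideal.prod_mem_prod fun i _ =>
        KaehlerDifferential.one_smul_sub_smul_one_mem_ideal A (z (g i))⟩, hφ _, ?_⟩
    rw [prodMap_tprod, map_prod, map_prod]
    refine Finset.prod_congr rfl fun i _ => ?_
    rw [← hb, SymmetricAlgebra.equivMvPolynomial_ι_apply, aeval_X]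
    rfl
  | zero => exact ⟨0, by simp, by simp⟩
  | add x x' _ _ hx hx' =>
    obtain ⟨y, h1, h2⟩ := hx
    obtain ⟨y', h1', h2'⟩ := hx'
    exact ⟨y + y', by rw [map_add, h1, h1']; rfl,
      by rw [map_add, map_add, map_add, Submodule.coe_add, h2, h2']⟩
  | smul c x _ hx =>
    obtain ⟨y, h1, h2⟩ := hx
    exact ⟨c • y, by rw [map_smul, h1]; rfl,
      by rw [map_smul, map_smul, map_smul, Submodule.coe_smul, h2]⟩

theorem irr_map_le (b : Module.Basis (Fin n) B (KaehlerDifferential A B)) (k : ℕ)
    {s : SymmetricAlgebra B (KaehlerDifferential A B)}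
    (hs : s ∈ irr B (KaehlerDifferential A B) ^ k) :
    SymmetricAlgebra.equivMvPolynomial b s ∈ idealOfVars (Fin n) B ^ k := by
  have h1 := Ideal.mem_map_of_mem (SymmetricAlgebra.equivMvPolynomial b) hs
  rw [Ideal.map_pow] at h1
  refine Ideal.pow_right_mono ?_ k h1
  rw [irr, Ideal.map_span, Ideal.span_le]
  rintro _ ⟨_, ⟨ω, rfl⟩, rfl⟩
  rw [← b.sum_repr ω]
  simp only [map_sum, map_smul, SymmetricAlgebra.equivMvPolynomial_ι_apply]
  exact Submodule.sum_mem _ fun i _ =>
    Submodule.smul_of_tower_mem _ _ (Ideal.subset_span ⟨i, rfl⟩)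

theorem map_le_irr (b : Module.Basis (Fin n) B (KaehlerDifferential A B)) (k : ℕ)
    {w : MvPolynomial (Fin n) B} (hw : w ∈ idealOfVars (Fin n) B ^ k) :
    (SymmetricAlgebra.equivMvPolynomial b).symm w ∈ irr B (KaehlerDifferential A B) ^ k := by
  have h1 := Ideal.mem_map_of_mem (SymmetricAlgebra.equivMvPolynomial b).symm hw
  rw [Ideal.map_pow] at h1
  refine Ideal.pow_right_mono ?_ k h1
  rw [idealOfVars, Ideal.map_span, Ideal.span_le]
  rintro _ ⟨_, ⟨i, rfl⟩, rfl⟩
  rw [SymmetricAlgebra.equivMvPolynomial_symm_X]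
  exact ι_mem_irr _

theorem isDiffSmooth_of_indep
    (hspan : Submodule.span B (Set.range fun i => KaehlerDifferential.D A B (z i)) = ⊤)
    (hind : Indep A z) : _root_.PP16.IsDiffSmooth A B := by
  classical
  obtain ⟨b, hb⟩ := exists_basis hspan hind
  haveI : Module.Free B (KaehlerDifferential A B) := Module.Free.of_basis b
  refine ⟨inferInstance, fun ι _ => ?_⟩
  obtain ⟨φ, hφ⟩ := Groth.Agent.S3819.exists_phi A B ι
  refine ⟨φ, hφ, ?_, ?_⟩
  · refine (injective_iff_map_eq_zero φ).mpr fun t ht => ?_
    obtain ⟨y, h1, h2⟩ := exists_theta b hb ι φ hφ t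
    rw [h1, Submodule.Quotient.mk_eq_zero, Submodule.mem_comap] at ht
    have h3 := map_le_irr b _ (hind (Fintype.card ι + 1) _ (h2.symm ▸ (show (y : B ⊗[A] B) ∈ _ from ht)))
    rw [AlgEquiv.symm_apply_apply] at h3
    rcases isEmpty_or_nonempty ι with hι | hι
    · let v₀ : ι → KaehlerDifferential A B := isEmptyElim
      have ht' : t ∈ Submodule.span B {SymmetricPower.tprod B v₀} := by
        rw [← show Set.range (SymmetricPower.tprod B (ι := ι) (M := KaehlerDifferential A B)) =
          {SymmetricPower.tprod B v₀} from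
            Set.range_eq_singleton_iff.mpr fun v => congrArg _ (Subsingleton.elim v v₀),
          SymmetricPower.span_tprod_eq_top]
        trivial
      obtain ⟨c, rfl⟩ := Submodule.mem_span_singleton.mp ht'
      have h5 := irr_map_le b _ h3
      rw [map_smul, map_smul, prodMap_tprod, Fintype.prod_empty, map_one, Fintype.card_eq_zero,
        zero_add, pow_one, mem_idealOfVars_iff] at h5
      simp at h5
      rw [h5, zero_smul]
    · obtain ⟨Ψ, hΨ, hΨ0⟩ := exists_leftInv (B := B) (C := B) (P := KaehlerDifferential A B)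
        (ι := ι) Function.surjective_id
      exact (hΨ t).symm.trans (hΨ0 _ h3)
  · rw [← LinearMap.range_eq_top, ← top_le_iff]
    refine (Groth.Agent.S3819.exists_span_zeta A B ι).trans (Submodule.span_le.mpr ?_)
    rintro _ ⟨c, rfl⟩
    exact ⟨_, hφ c⟩

theorem indep_of_isDiffSmooth (hB : _root_.PP16.IsDiffSmooth A B)
    (b : Module.Basis (Fin n) B (KaehlerDifferential A B))
    (hb : ∀ i, b i = KaehlerDifferential.D A B (z i)) : Indep A z := by
  classical
  haveI : Module.Free B (KaehlerDifferential A B) := Module.Free.of_basis b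
  intro N w hw
  suffices ∀ j ≤ N, w ∈ idealOfVars (Fin n) B ^ j from this N le_rfl
  intro j
  induction j with
  | zero => simp
  | succ j ih =>
    intro hj
    rcases Nat.eq_zero_or_pos j with rfl | hpos
    · rw [zero_add, pow_one, mem_idealOfVars_iff, ← lmul_aeval (A := A) (z := z)]
      have h1 := Ideal.pow_le_pow_right hj hw
      rw [zero_add, pow_one] at h1
      exact h1
    · haveI : Nonempty (Fin j) := ⟨⟨0, hpos⟩⟩
      have hcard : Fintype.card (ULift.{u} (Fin j)) = j := by simp
      obtain ⟨φ, hφ, hbij⟩ := hB.2 (ULift.{u} (Fin j))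
      have h1 := map_le_irr b j (ih (by omega))
      obtain ⟨t, ht⟩ := exists_prodMap_sub_mem (B := B) (C := B) (ι := ULift.{u} (Fin j))
        Function.surjective_id _ (hcard.symm ▸ h1)
      have h2 := irr_map_le b _ ht
      rw [map_sub, AlgEquiv.apply_symm_apply] at h2
      obtain ⟨y, hy1, hy2⟩ := exists_theta b hb _ φ hφ t
      have h3 : φ t = 0 := by
        rw [hy1, Submodule.Quotient.mk_eq_zero, Submodule.mem_comap]
        show (y : B ⊗[A] B) ∈ _
        rw [← hy2]
        have h4 : aeval (xi A z) w ∈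
            KaehlerDifferential.ideal A B ^ (Fintype.card (ULift.{u} (Fin j)) + 1) :=
          Ideal.pow_le_pow_right (by omega) hw
        have h5 := Ideal.sub_mem _ h4 (aeval_xi_mem (A := A) (z := z) h2)
        rw [map_sub, sub_sub_cancel] at h5
        exact h5
      rw [hbij.1 (h3.trans (map_zero φ).symm), map_zero, map_zero, sub_zero, hcard] at h2
      exact h2

end Groth.Agent.H80.PP.Coord
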