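import Groth.Agent.H80.PP.Chart

/-!
# The symmetric algebra criterion for quasi-regular ideals
-/

set_option autoImplicit false
set_option backward.isDefEq.respectTransparency false
universe u

open MvPolynomial
open Groth.Agent.Lib.SymGr.Core Groth.Agent.H80.PP.Chart

namespace Groth.Agent.H80.PP.Criterion

variable {R : Type u} [CommRing R] {J : Ideal R}

theorem exists_chart_of_qr (h : PP16.IsLocallyQuasiRegular R J) (P : Ideal R) [P.IsPrime]
    (hP : J ≤ P) : ∃ g ∉ P, ∃ (r : ℕ) (f : Fin r → R), Chart J g f := by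
  obtain ⟨g, hg, r, f', hqr, hspan⟩ := h P hP
  obtain ⟨f, hf⟩ := exists_chart f' hqr hspan
  exact ⟨g, hg, r, f, hf⟩

theorem fg_of_qr (h : PP16.IsLocallyQuasiRegular R J) : J.FG := by
  let t : Set R := {g | (J.map (algebraMap R (Localization.Away g))).FG}
  refine Ideal.fg_of_localizationSpan t ?_ fun g => g.2
  by_contra hne
  obtain ⟨P, hP, hle⟩ := Ideal.exists_le_maximal _ hne
  by_cases hJP : J ≤ P
  · obtain ⟨g, hg, r, f', -, hspan⟩ := h P hJP
    refine hg (hle (Ideal.subset_span ?_))
    show (J.map _).FG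
    rw [← hspan]
    exact Submodule.fg_span (Set.finite_range f')
  · obtain ⟨g, hgJ, hg⟩ := SetLike.not_le_iff_exists.mp hJP
    refine hg (hle (Ideal.subset_span ?_))
    show (J.map _).FG
    rw [Ideal.eq_top_of_isUnit_mem _ (Ideal.mem_map_of_mem _ hgJ)
      (IsLocalization.map_units (Localization.Away g) (⟨g, 1, pow_one g⟩ : Submonoid.powers g))]
    exact ⟨{1}, by simp⟩

/-- Over a chart the conormal module is free. -/
theorem Chart.basis_localized {g : R} {r : ℕ} {f : Fin r → R} (h : Chart J g f)
    (T : Submonoid (R ⧸ J)) (hgT : Ideal.Quotient.mk J g ∈ T) :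
    Nonempty (Module.Basis (Fin r) (Localization T) (LocalizedModule T J.Cotangent)) := by
  classical
  set L := Localization T
  let fJ : Fin r → J := fun i => ⟨f i, h.mem i⟩
  let v : Fin r → LocalizedModule T J.Cotangent := fun i =>
    LocalizedModule.mk (J.toCotangent (fJ i)) 1
  have hkey : ∀ (c : Fin r → R ⧸ J), ∑ i, c i • J.toCotangent (fJ i) = 0 →
      ∀ i, ∃ s : T, (s : R ⧸ J) * c i = 0 := by
    intro c hc i
    choose c' hc' using fun i => Ideal.Quotient.mk_surjective (c i)
    have h0 : J.toCotangent (∑ i, c' i • fJ i) = 0 := by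
      rw [map_sum, ← hc]
      refine Finset.sum_congr rfl fun i _ => ?_
      rw [map_smul, ← hc' i]
      exact (algebraMap_smul (R ⧸ J) (c' i) _).symm
    rw [Ideal.toCotangent_eq_zero, Submodule.coe_sum] at h0
    obtain ⟨N, hN⟩ := h.qr 1 (∑ i, C (c' i) * X i)
      (IsHomogeneous.sum _ _ _ fun i _ => isHomogeneous_C_mul_X _ i)
      (by simpa [fJ] using h0) (Finsupp.single i 1)
    refine ⟨⟨_, pow_mem hgT N⟩, ?_⟩
    simp only [coeff_sum, coeff_C_mul, coeff_X', Finsupp.single_left_inj one_ne_zero, mul_ite,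
      mul_one, mul_zero, Finset.sum_ite_eq', Finset.mem_univ, if_true] at hN
    show Ideal.Quotient.mk J g ^ N * c i = 0
    rw [← hc' i, ← map_pow, ← map_mul]
    exact Ideal.Quotient.eq_zero_iff_mem.mpr hN
  have hspan : ⊤ ≤ Submodule.span L (Set.range v) := by
    rintro y -
    induction y using LocalizedModule.induction_on with | _ m s => ?_
    obtain ⟨x, rfl⟩ := J.toCotangent_surjective m
    obtain ⟨N, hN⟩ := h.gen x x.2
    obtain ⟨c, hc⟩ := Ideal.mem_span_range_iff_exists_fun.mp hN
    have h1 : (Ideal.Quotient.mk J g ^ N) • J.toCotangent x =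
        ∑ i, Ideal.Quotient.mk J (c i) • J.toCotangent (fJ i) := by
      rw [← map_pow, ← Ideal.Quotient.algebraMap_eq]
      simp only [algebraMap_smul, ← map_smul, ← map_sum]
      congr 1
      refine Subtype.ext ?_
      rw [Submodule.coe_smul, smul_eq_mul, ← hc, Submodule.coe_sum]
      simp [fJ]
    have h2 : LocalizedModule.mk (J.toCotangent x) s =
        (Localization.mk (1 : R ⧸ J) ⟨_, mul_mem (pow_mem hgT N) s.2⟩ : L) •
          LocalizedModule.mk ((Ideal.Quotient.mk J g ^ N) • J.toCotangent x) 1 := by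
      rw [LocalizedModule.mk_smul_mk, LocalizedModule.mk_eq]
      refine ⟨1, ?_⟩
      simp only [Submonoid.smul_def, Submonoid.coe_mul, mul_one, one_smul, OneMemClass.coe_one,
        smul_smul]
      congr 1
      ring
    show LocalizedModule.mk (J.toCotangent x) s ∈ _
    rw [h2, h1]
    refine Submodule.smul_mem _ _ ?_
    rw [← LocalizedModule.mkLinearMap_apply, map_sum]
    refine Submodule.sum_mem _ fun i _ => ?_
    rw [map_smul, LocalizedModule.mkLinearMap_apply, ← algebraMap_smul L]
    exact Submodule.smul_mem _ _ (Submodule.subset_span ⟨i, rfl⟩)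
  have hli : LinearIndependent L v := by
    rw [Fintype.linearIndependent_iff]
    intro c hc i
    obtain ⟨s, hs⟩ := IsLocalization.exist_integer_multiples_of_finite T c
    choose c' hc' using hs
    have h1 : LocalizedModule.mkLinearMap T J.Cotangent (∑ j, c' j • J.toCotangent (fJ j)) = 0 := by
      rw [map_sum]
      refine Eq.trans ?_ (show algebraMap (R ⧸ J) L s • (∑ j, c j • v j) = 0 by rw [hc, smul_zero])
      rw [Finset.smul_sum]
      refine Finset.sum_congr rfl fun j _ => ?_
      rw [map_smul, LocalizedModule.mkLinearMap_apply, smul_smul, ← algebraMap_smul L (c' j), hc' j,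
        Algebra.smul_def]
    obtain ⟨u, hu⟩ := (IsLocalizedModule.eq_zero_iff T (LocalizedModule.mkLinearMap T J.Cotangent)).mp h1
    rw [Submonoid.smul_def, Finset.smul_sum] at hu
    simp only [smul_smul] at hu
    obtain ⟨w, hw⟩ := hkey _ hu i
    have h2 : algebraMap (R ⧸ J) L ((w : R ⧸ J) * ((u : R ⧸ J) * c' i)) = 0 := by rw [hw, map_zero]
    rw [map_mul, map_mul, hc' i, Algebra.smul_def] at h2
    rwa [(IsLocalization.map_units L w).mul_right_eq_zero,
      (IsLocalization.map_units L u).mul_right_eq_zero,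
      (IsLocalization.map_units L s).mul_right_eq_zero] at h2
  exact ⟨Module.Basis.mk hli hspan⟩

theorem projective_of_qr (h : PP16.IsLocallyQuasiRegular R J) :
    Module.Projective (R ⧸ J) J.Cotangent := by
  classical
  have hchart : ∀ p : Ideal (R ⧸ J), p.IsPrime → ∃ g, Ideal.Quotient.mk J g ∉ p ∧
      ∃ (r : ℕ) (f : Fin r → R), Chart J g f := by
    intro p hp
    obtain ⟨g, hg, h'⟩ := exists_chart_of_qr h (p.comap (Ideal.Quotient.mk J)) (fun x hx => by
      rw [Ideal.mem_comap, Ideal.Quotient.eq_zero_iff_mem.mpr hx]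
      exact zero_mem _)
    exact ⟨g, hg, h'⟩
  let s : Set (R ⧸ J) :=
    {q | Module.FinitePresentation (Localization.Away q) (LocalizedModule.Away q J.Cotangent)}
  have hs : Ideal.span s = ⊤ := by
    by_contra hne
    obtain ⟨p, hp, hle⟩ := Ideal.exists_le_maximal _ hne
    obtain ⟨g, hg, r, f, hf⟩ := hchart p hp.isPrime
    refine hg (hle (Ideal.subset_span ?_))
    obtain ⟨b⟩ := Chart.basis_localized hf (Submonoid.powers (Ideal.Quotient.mk J g))
      (Submonoid.mem_powers _)
    have := Module.Free.of_basis b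
    have := Module.Finite.of_basis b
    exact Module.finitePresentation_of_projective _ _
  have : Module.FinitePresentation (R ⧸ J) J.Cotangent :=
    Module.FinitePresentation.of_localizationSpan s hs fun q => q.2
  refine Module.projective_of_localization_maximal fun p hp => ?_
  obtain ⟨g, hg, r, f, hf⟩ := hchart p hp.isPrime
  obtain ⟨b⟩ := Chart.basis_localized hf p.primeCompl hg
  exact Module.Projective.of_basis b

theorem symGr_of_qr (h : PP16.IsLocallyQuasiRegular R J) : PP16.SymGrBijective R J := by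
  classical
  intro ι _ _
  obtain ⟨φ, hφ⟩ := exists_phiJ J ι
  refine ⟨φ, hφ, (injective_iff_map_eq_zero φ).mpr fun t ht => ?_, phiJ_surjective J φ hφ⟩
  let K : Ideal R := (⊥ : Submodule R (SymmetricPower R ι J.Cotangent)).colon {t}
  have hK : ∀ s, s ∈ K ↔ s • t = 0 := fun s => by
    rw [Submodule.mem_colon_singleton, Submodule.mem_bot]
  by_contra hne
  have hKtop : K ≠ ⊤ := fun htop => hne (by simpa using (hK 1).mp (htop ▸ trivial))
  obtain ⟨P, hP, hle⟩ := Ideal.exists_le_maximal K hKtop
  by_cases hJP : J ≤ P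
  · obtain ⟨g, hg, r, f, hf⟩ := exists_chart_of_qr h P hJP
    obtain ⟨N, hN⟩ := Chart.Chart.kill hf φ hφ t ht
    exact hg (hP.isPrime.mem_of_pow_mem N (hle ((hK _).mpr hN)))
  · obtain ⟨s, hsJ, hs⟩ := SetLike.not_le_iff_exists.mp hJP
    refine hs (hle ((hK s).mpr (smul_eq_zero_of_ker (C := R ⧸ J) s ?_ t)))
    rw [Ideal.Quotient.algebraMap_eq, Ideal.Quotient.eq_zero_iff_mem.mpr hsJ]

/-- Charts exist near every prime when the conormal module is projective and the graded ring is
symmetric. -/
theorem qr_of_symGr (hFG : J.FG) [Module.Projective (R ⧸ J) J.Cotangent]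
    (hgr : PP16.SymGrBijective R J) : PP16.IsLocallyQuasiRegular R J := by
  classical
  intro P _ hJP
  let p : Ideal (R ⧸ J) := P.map (Ideal.Quotient.mk J)
  have hp : p.IsPrime := Ideal.map_isPrime_of_surjective Ideal.Quotient.mk_surjective
    (by rwa [Ideal.mk_ker])
  have hmemp : ∀ x, Ideal.Quotient.mk J x ∈ p ↔ x ∈ P := fun x => by
    rw [show p = P.map (Ideal.Quotient.mk J) from rfl, Ideal.mem_quotient_iff_mem hJP]
  have : Module.Finite R J := Module.Finite.iff_fg.mpr hFG
  have hfin : Module.Finite (R ⧸ J) J.Cotangent := by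
    have : Module.Finite R J.Cotangent := Module.Finite.of_surjective _ J.toCotangent_surjective
    exact Module.Finite.of_restrictScalars_finite R _ _
  let L := Localization.AtPrime p
  let N := LocalizedModule p.primeCompl J.Cotangent
  have : Module.Finite L N := Module.Finite.of_isLocalizedModule p.primeCompl (Rₚ := L)
    (LocalizedModule.mkLinearMap p.primeCompl J.Cotangent)
  have : Module.Projective L N := Module.projective_of_isLocalizedModule p.primeCompl
    (LocalizedModule.mkLinearMap p.primeCompl J.Cotangent)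
  have : Module.FinitePresentation L N := Module.finitePresentation_of_projective L N
  let vv : J → N := fun x => LocalizedModule.mk (J.toCotangent x) 1
  obtain ⟨κ, a, b, hb⟩ := Module.exists_basis_of_span_of_flat (R := L) (M := N) vv (by
      rw [eq_top_iff]
      rintro y -
      induction y using LocalizedModule.induction_on with | _ m s => ?_
      obtain ⟨x, rfl⟩ := J.toCotangent_surjective m
      have : LocalizedModule.mk (J.toCotangent x) s =
          (Localization.mk (1 : R ⧸ J) s : L) • LocalizedModule.mk (J.toCotangent x) 1 := by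
        rw [LocalizedModule.mk_smul_mk, one_smul, mul_one]
      show LocalizedModule.mk (J.toCotangent x) s ∈ _
      rw [this]
      exact Submodule.smul_mem _ _ (Submodule.subset_span ⟨x, rfl⟩))
  have : Finite κ := Module.Finite.finite_basis b
  have : Fintype κ := Fintype.ofFinite κ
  let r : ℕ := Fintype.card κ
  let e : κ ≃ Fin r := Fintype.equivFin κ
  let b' := b.reindex e
  let fJ : Fin r → J := fun i => a (e.symm i)
  have hb' : ∀ i, b' i = LocalizedModule.mkLinearMap p.primeCompl J.Cotangent (J.toCotangent (fJ i)) := fun i => by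
    rw [Module.Basis.reindex_apply, hb]
    rfl
  let π : (Fin r → R ⧸ J) →ₗ[R ⧸ J] J.Cotangent :=
    Fintype.linearCombination (R ⧸ J) fun i => J.toCotangent (fJ i)
  -- the cokernel is killed by an element outside `p`
  obtain ⟨g1, hg1, hg1'⟩ : ∃ g1 ∉ p, ∀ m : J.Cotangent, g1 • m ∈ LinearMap.range π := by
    let K : Ideal (R ⧸ J) := (LinearMap.range π).colon ((⊤ : Submodule (R ⧸ J) J.Cotangent) : Set J.Cotangent)
    suffices ¬ K ≤ p by
      obtain ⟨g1, hK, hg1⟩ := SetLike.not_le_iff_exists.mp this
      exact ⟨g1, hg1, fun m => Submodule.mem_colon.mp hK m trivial⟩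
    intro hKp
    obtain ⟨n, w, hw⟩ : ∃ (n : ℕ) (w : Fin n → J.Cotangent),
        Submodule.span (R ⧸ J) (Set.range w) = ⊤ := Submodule.fg_iff_exists_fin_generating_family.mp hfin.fg_top
    have hex : ∀ k, ∃ t : p.primeCompl, (t : R ⧸ J) • w k ∈ LinearMap.range π := by
      intro k
      obtain ⟨s, hs⟩ := IsLocalization.exist_integer_multiples_of_finite p.primeCompl
        fun i => b'.repr (LocalizedModule.mkLinearMap p.primeCompl J.Cotangent (w k)) i
      choose c hc using hs
      have h1 : LocalizedModule.mkLinearMap p.primeCompl J.Cotangent ((s : R ⧸ J) • w k) =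
          LocalizedModule.mkLinearMap p.primeCompl J.Cotangent (π c) := by
        rw [map_smul, Fintype.linearCombination_apply, map_sum,
          ← b'.sum_repr (LocalizedModule.mkLinearMap p.primeCompl J.Cotangent (w k)), Finset.smul_sum]
        refine Finset.sum_congr rfl fun i _ => ?_
        rw [map_smul, hb', ← algebraMap_smul L (c i), hc i, smul_assoc]
      obtain ⟨u, hu⟩ := IsLocalizedModule.exists_of_eq (S := p.primeCompl) h1
      refine ⟨u * s, ?_⟩
      rw [Submonoid.coe_mul, mul_smul]
      exact hu ▸ Submodule.smul_mem _ _ (LinearMap.mem_range_self π c)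
    choose t ht using hex
    refine (∏ k, t k).2 (hKp (Submodule.mem_colon.mpr fun m htop => ?_))
    clear htop
    have hm : m ∈ Submodule.span (R ⧸ J) (Set.range w) := hw ▸ trivial
    induction hm using Submodule.span_induction with
    | mem x hx =>
      obtain ⟨k, rfl⟩ := hx
      rw [SubmonoidClass.coe_finsetProd, ← Finset.prod_erase_mul _ _ (Finset.mem_univ k), mul_smul]
      exact Submodule.smul_mem _ _ (ht k)
    | zero => rw [smul_zero]; exact zero_mem _
    | add x y _ _ hx hy => rw [smul_add]; exact add_mem hx hy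
    | smul c x _ hx => rw [smul_comm]; exact Submodule.smul_mem _ _ hx
  obtain ⟨σ, hσ⟩ := Module.projective_lifting_property π.rangeRestrict
    ((g1 • LinearMap.id : J.Cotangent →ₗ[R ⧸ J] J.Cotangent).codRestrict _ fun m => hg1' m)
    π.surjective_rangeRestrict
  have hσ' : ∀ m, π (σ m) = g1 • m := fun m => congrArg Subtype.val (LinearMap.congr_fun hσ m)
  obtain ⟨g2, hg2, hg2'⟩ : ∃ g2 ∉ p, ∀ i, g2 • (σ (J.toCotangent (fJ i)) -
      g1 • (Pi.single i 1 : Fin r → R ⧸ J)) = 0 := by
    have h0 : ∀ i l, ∃ t : p.primeCompl,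
        (t : R ⧸ J) * (σ (J.toCotangent (fJ i)) - g1 • (Pi.single i 1 : Fin r → R ⧸ J)) l = 0 := by
      intro i l
      set v := σ (J.toCotangent (fJ i)) - g1 • (Pi.single i 1 : Fin r → R ⧸ J) with hv
      have h1 : π v = 0 := by
        rw [hv, map_sub, hσ', map_smul, Fintype.linearCombination_apply_single, one_smul, sub_self]
      have h2 : ∑ k, algebraMap (R ⧸ J) L (v k) • b' k = 0 := by
        have := congrArg (LocalizedModule.mkLinearMap p.primeCompl J.Cotangent) h1
        rw [map_zero, Fintype.linearCombination_apply, map_sum] at this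
        simpa [hb', algebraMap_smul] using this
      have h3 := Fintype.linearIndependent_iff.mp b'.linearIndependent _ h2 l
      obtain ⟨⟨t, ht⟩, htv⟩ := (IsLocalization.map_eq_zero_iff p.primeCompl L _).mp h3
      exact ⟨⟨t, ht⟩, htv⟩
    choose t ht using h0
    refine ⟨(∏ i, ∏ l, t i l : p.primeCompl), (∏ i, ∏ l, t i l).2, fun i => funext fun l => ?_⟩
    rw [Pi.smul_apply, Pi.zero_apply, smul_eq_mul, SubmonoidClass.coe_finsetProd,
      ← Finset.prod_erase_mul _ _ (Finset.mem_univ i), SubmonoidClass.coe_finsetProd,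
      ← Finset.prod_erase_mul _ _ (Finset.mem_univ l), mul_assoc, mul_assoc, ht, mul_zero, mul_zero]
  obtain ⟨γ, hγ⟩ := Ideal.Quotient.mk_surjective (g2 * g1)
  let ρ : J.Cotangent →ₗ[R ⧸ J] (Fin r → R ⧸ J) := g2 • σ
  have hρπ : ∀ i, ρ (J.toCotangent (fJ i)) = Ideal.Quotient.mk J γ • (Pi.single i 1 : Fin r → R ⧸ J) := fun i => by
    have := hg2' i
    rw [smul_sub, sub_eq_zero, smul_smul] at this
    rw [hγ]
    exact this
  have hπρ : ∀ m, π (ρ m) = Ideal.Quotient.mk J γ • m := fun m => by
    show π (g2 • σ m) = _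
    rw [map_smul, hσ', hγ, mul_smul]
  have hγP : γ ∉ P := fun h => by
    have := (hmemp γ).mpr h
    rw [hγ] at this
    exact (hp.mem_or_mem this).elim hg2 hg1
  -- Nakayama
  let f : Fin r → R := fun i => fJ i
  obtain ⟨u, huP, hu⟩ : ∃ u ∉ P, ∀ x ∈ J, u * x ∈ Ideal.span (Set.range f) := by
    let S := Localization.AtPrime P
    have hle : J.map (algebraMap R S) ≤ (Ideal.span (Set.range f)).map (algebraMap R S) := by
      refine Submodule.le_of_le_smul_of_le_jacobson_bot (I := J.map (algebraMap R S))
        (hFG.map _) ?_ ?_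
      · refine le_trans ?_ (IsLocalRing.maximalIdeal_le_jacobson ⊥)
        rw [← Localization.AtPrime.map_eq_maximalIdeal]
        exact Ideal.map_mono hJP
      · rw [smul_eq_mul, ← Ideal.map_mul, ← Submodule.add_eq_sup]
        rw [Ideal.map_le_iff_le_comap]
        intro x hx
        choose c hc using fun i => Ideal.Quotient.mk_surjective (ρ (J.toCotangent ⟨x, hx⟩) i)
        have h1 : J.toCotangent (γ • (⟨x, hx⟩ : J) - ∑ i, c i • fJ i) = 0 := by
          rw [map_sub, map_smul, map_sum, sub_eq_zero, ← algebraMap_smul (R ⧸ J) γ,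
            Ideal.Quotient.algebraMap_eq, ← hπρ, Fintype.linearCombination_apply]
          refine Finset.sum_congr rfl fun i _ => ?_
          rw [map_smul, ← hc i]
          exact algebraMap_smul (R ⧸ J) (c i) _
        rw [Ideal.toCotangent_eq_zero, pow_two, Submodule.coe_sub, Submodule.coe_smul,
          Submodule.coe_sum, smul_eq_mul] at h1
        rw [Ideal.mem_comap, Submodule.add_eq_sup, ← Ideal.map_sup,
          ← Ideal.unit_mul_mem_iff_mem _ (IsLocalization.map_units S (⟨γ, hγP⟩ : P.primeCompl)),
          ← map_mul]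
        refine Ideal.mem_map_of_mem _ (Submodule.mem_sup.mpr ⟨∑ i, c i * f i,
          Ideal.sum_mem _ fun i _ => Ideal.mul_mem_left _ _ (Ideal.subset_span ⟨i, rfl⟩), _, h1, ?_⟩)
        simp [f]
    let K : Ideal R := (Ideal.span (Set.range f)).colon (J : Set R)
    suffices ¬ K ≤ P by
      obtain ⟨u, hK, hu⟩ := SetLike.not_le_iff_exists.mp this
      exact ⟨u, hu, fun x hx => by simpa using Submodule.mem_colon.mp hK x hx⟩
    intro hKP
    obtain ⟨s, hs⟩ := hFG
    have hex : ∀ x : s, ∃ t : P.primeCompl, (t : R) * x.1 ∈ Ideal.span (Set.range f) := fun x => by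
      obtain ⟨t, ht, h⟩ := (IsLocalization.algebraMap_mem_map_algebraMap_iff P.primeCompl S _ _).mp
        (hle (Ideal.mem_map_of_mem _ (hs ▸ Submodule.subset_span x.2 : x.1 ∈ J)))
      exact ⟨⟨t, ht⟩, h⟩
    choose t ht using hex
    refine (∏ x : s, t x).2 (hKP (Submodule.mem_colon.mpr fun y hy => ?_))
    have hy' : y ∈ Submodule.span R (s : Set R) := hs.ge hy
    induction hy' using Submodule.span_induction with
    | mem x hx =>
      rw [SubmonoidClass.coe_finsetProd,
        ← Finset.prod_erase_mul _ _ (Finset.mem_univ (⟨x, hx⟩ : s)), smul_eq_mul, mul_assoc]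
      exact Ideal.mul_mem_left _ _ (ht ⟨x, hx⟩)
    | zero => rw [smul_zero]; exact zero_mem _
    | add x z hx' hz' ihx ihz =>
      rw [smul_add]
      exact add_mem (ihx (hs.le hx')) (ihz (hs.le hz'))
    | smul c x hx' ih => rw [smul_comm]; exact Submodule.smul_mem _ _ (ih (hs.le hx'))
  have hchart : Chart J (γ * u) f := by
    refine ⟨fun i => (fJ i).2, fun x hx => ⟨1, by
      rw [pow_one, mul_assoc]; exact Ideal.mul_mem_left _ _ (hu x hx)⟩, fun n Q hQ hev d => ?_⟩
    rcases Nat.eq_zero_or_pos n with rfl | hn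
    · refine ⟨0, ?_⟩
      obtain ⟨c, rfl⟩ : ∃ c, Q = C c := ⟨Q.coeff 0, totalDegree_eq_zero_iff_eq_C.mp
        (Nat.le_zero.mp hQ.totalDegree_le)⟩
      rw [eval_C, zero_add, pow_one] at hev
      rw [pow_zero, one_mul, coeff_C]
      split_ifs
      · exact hev
      · exact zero_mem _
    have : Nonempty (Fin n) := ⟨⟨0, hn⟩⟩
    let ι := ULift.{u} (Fin n)
    have hcard : Fintype.card ι = n := by simp [ι]
    obtain ⟨φ, hφ, hbij⟩ := hgr ι
    obtain ⟨T, hT, hTφ⟩ := exists_T J fJ ι φ hφ
    rw [← hcard] at hQ hev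
    have hy : eval (fun i => (fJ i : R)) Q ∈ J ^ Fintype.card ι :=
      Ideal.pow_le_pow_right (Nat.le_succ _) hev
    have hTQ : T Q = 0 := by
      refine hbij.1 ?_
      rw [hTφ Q hQ hy, map_zero, Submodule.Quotient.mk_eq_zero]
      exact hev
    let lin : J.Cotangent →ₗ[R] MvPolynomial (Fin r) (R ⧸ J) :=
      ((Fintype.linearCombination (R ⧸ J) fun i => (X i : MvPolynomial (Fin r) (R ⧸ J))) ∘ₗ ρ).restrictScalars R
    let G : SymmetricPower R ι J.Cotangent →ₗ[R] MvPolynomial (Fin r) (R ⧸ J) :=
      symLift ((MultilinearMap.mkPiAlgebra R ι (MvPolynomial (Fin r) (R ⧸ J))).compLinearMap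
        fun _ => lin) fun e v => Equiv.prod_comp e fun i => lin (v i)
    have hGT : ∀ P : MvPolynomial (Fin r) R, P.IsHomogeneous (Fintype.card ι) →
        ∀ e, (G (T P)).coeff e = Ideal.Quotient.mk J (γ ^ Fintype.card ι * P.coeff e) := by
      intro P hP
      have hP' : P ∈ Submodule.span R (Set.range fun h : ι → Fin r => ∏ i, (X (h i) : MvPolynomial (Fin r) R)) := by
        rw [P.as_sum]
        refine Submodule.sum_mem _ fun e he => ?_
        have hdeg : Finsupp.degree e = Fintype.card ι := by
          by_contra hne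
          exact mem_support_iff.mp he (hP.coeff_eq_zero hne)
        have hc : Fintype.card (Σ i, Fin (e i)) = Fintype.card ι := by
          rw [← hdeg, Fintype.card_sigma, Finsupp.degree_eq_sum]
          simp
        let E := Fintype.equivOfCardEq hc
        rw [← mul_one (P.coeff e), ← smul_eq_mul, ← smul_monomial]
        refine Submodule.smul_mem _ _ (Submodule.subset_span ⟨fun i => (E.symm i).1, ?_⟩)
        dsimp only
        rw [monomial_eq, map_one, one_mul, Finsupp.prod_fintype _ _ fun i => pow_zero _,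
          Equiv.prod_comp E.symm fun k => (X k.1 : MvPolynomial (Fin r) R), Fintype.prod_sigma]
        exact Finset.prod_congr rfl fun i _ => by simp
      clear hP
      induction hP' using Submodule.span_induction with
      | mem x hx =>
        obtain ⟨h, rfl⟩ := hx
        intro e
        have : G (T (∏ i, X (h i))) =
            MvPolynomial.map (Ideal.Quotient.mk J) (C (γ ^ Fintype.card ι) * ∏ i, X (h i)) := by
          rw [hT, symLift_tprod]
          simp only [MultilinearMap.compLinearMap_apply, MultilinearMap.mkPiAlgebra_apply, map_mul,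
            map_prod, map_C, map_X, map_pow]
          rw [← Finset.card_univ, ← Finset.prod_const, ← Finset.prod_mul_distrib]
          refine Finset.prod_congr rfl fun i _ => ?_
          simp only [lin, LinearMap.restrictScalars_apply, LinearMap.comp_apply, hρπ, map_smul,
            Fintype.linearCombination_apply_single, one_smul, smul_eq_C_mul]
        rw [this, coeff_map, coeff_C_mul]
      | zero => intro e; simp
      | add x y _ _ hx hy =>
        intro e
        rw [map_add, map_add, coeff_add, hx, hy, coeff_add, mul_add, map_add]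
      | smul c x _ hx =>
        intro e
        rw [map_smul, map_smul, coeff_smul, hx, coeff_smul, ← algebraMap_smul (R ⧸ J) c,
          Ideal.Quotient.algebraMap_eq, smul_eq_mul, smul_eq_mul, ← map_mul, mul_left_comm]
    have h0 := hGT Q hQ d
    rw [hTQ, map_zero, coeff_zero, eq_comm, Ideal.Quotient.eq_zero_iff_mem] at h0
    refine ⟨Fintype.card ι, ?_⟩
    rw [mul_pow, mul_assoc, mul_left_comm]
    exact Ideal.mul_mem_left _ _ h0
  exact ⟨γ * u, fun h => (Ideal.IsPrime.mem_or_mem ‹P.IsPrime› h).elim hγP huP, r, _,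
    Chart.Chart.isQuasiRegular hchart, Chart.Chart.map_eq hchart⟩

end Groth.Agent.H80.PP.Criterion
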