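import Groth.Agent.H80.PP.Coord

/-!
# Statements for an arbitrary finite index type
-/

set_option autoImplicit false
set_option backward.isDefEq.respectTransparency false
universe u

open MvPolynomial
open scoped TensorProduct
open Groth.Agent.Lib.DiffOp.Coordinates Groth.Agent.Lib.DiffOp
open Groth.Agent.H80.PP.Coord

namespace Groth.Agent.H80.PP.Reindex

variable {A B : Type u} [CommRing A] [CommRing B] [Algebra A B] {ι : Type} [Fintype ι] (z : ι → B)

/-- The coordinates indexed by `Fin`. -/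
noncomputable def zz : Fin (Fintype.card ι) → B := z ∘ (Fintype.equivFin ι).symm

theorem prod_eq {M : Type*} [CommMonoid M] (f : ι → ℕ → M) (p : ι → ℕ) :
    ∏ k, f ((Fintype.equivFin ι).symm k) (p ((Fintype.equivFin ι).symm k)) = ∏ i, f i (p i) :=
  Equiv.prod_comp (Fintype.equivFin ι).symm fun i => f i (p i)

theorem span_zz (hz : Submodule.span B (Set.range fun i => KaehlerDifferential.D A B (z i)) = ⊤) :
    Submodule.span B (Set.range fun k => KaehlerDifferential.D A B (zz z k)) = ⊤ := by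
  rw [← hz]
  congr 1
  exact ((Fintype.equivFin ι).symm.surjective.range_comp fun i => KaehlerDifferential.D A B (z i))

/-- The index change on multi-indices. -/
noncomputable def idx : (Fin (Fintype.card ι) → ℕ) ≃ (ι → ℕ) :=
  Equiv.arrowCongr (Fintype.equivFin ι).symm (Equiv.refl ℕ)

theorem idx_apply (p : Fin (Fintype.card ι) → ℕ) (i : ι) :
    idx p i = p (Fintype.equivFin ι i) := rfl

theorem idx_symm_apply (p : ι → ℕ) (k : Fin (Fintype.card ι)) :
    idx.symm p k = p ((Fintype.equivFin ι).symm k) := rfl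

theorem sum_idx (p : Fin (Fintype.card ι) → ℕ) : ∑ i : ι, idx p i = ∑ k, p k :=
  Equiv.sum_comp (Fintype.equivFin ι) p

theorem sum_idx_symm (p : ι → ℕ) : ∑ k, idx.symm p k = ∑ i : ι, p i :=
  Equiv.sum_comp (Fintype.equivFin ι).symm p

theorem prod_pow (p : ι → ℕ) : ∏ k, zz z k ^ idx.symm p k = ∏ i, z i ^ p i :=
  prod_eq (fun i m => z i ^ m) p

theorem val_eq (p q : ι → ℕ) :
    ((∏ k, Nat.choose (idx.symm q k) (idx.symm p k) : ℕ) : B) *
        ∏ k, zz z k ^ (idx.symm q k - idx.symm p k) =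
      ((∏ i, Nat.choose (q i) (p i) : ℕ) : B) * ∏ i, z i ^ (q i - p i) := by
  congr 1
  · congr 1
    exact Equiv.prod_comp (Fintype.equivFin ι).symm fun i => Nat.choose (q i) (p i)
  · exact Equiv.prod_comp (Fintype.equivFin ι).symm fun i => z i ^ (q i - p i)

/-- Operators indexed by `Fin`. -/
theorem operators_zz {Dp : (ι → ℕ) → (B →ₗ[A] B)}
    (hDz : ∀ p q : ι → ℕ, Dp p (∏ i, z i ^ q i) =
      ((∏ i, Nat.choose (q i) (p i) : ℕ) : B) * ∏ i, z i ^ (q i - p i))
    (p q : Fin (Fintype.card ι) → ℕ) : Dp (idx p) (∏ k, zz z k ^ q k) =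
      ((∏ k, Nat.choose (q k) (p k) : ℕ) : B) * ∏ k, zz z k ^ (q k - p k) := by
  obtain ⟨q, rfl⟩ : ∃ q', idx.symm q' = q := ⟨idx q, idx.symm_apply_apply q⟩
  obtain ⟨p, rfl⟩ : ∃ p', idx.symm p' = p := ⟨idx p, idx.symm_apply_apply p⟩
  rw [Equiv.apply_symm_apply, prod_pow, val_eq]
  exact hDz p q

theorem indep_of_operators
    (hz : Submodule.span B (Set.range fun i => KaehlerDifferential.D A B (z i)) = ⊤)
    (Dp : (ι → ℕ) → (B →ₗ[A] B)) (hD : ∀ p, ∃ k : ℕ, Diff16.IsDiffOpLE A B B B k (Dp p))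
    (hDz : ∀ p q : ι → ℕ, Dp p (∏ i, z i ^ q i) =
      ((∏ i, Nat.choose (q i) (p i) : ℕ) : B) * ∏ i, z i ^ (q i - p i)) :
    Indep A (zz z) ∧ ∀ p, Diff16.IsDiffOpLE A B B B (∑ i, p i) (Dp p) := by
  obtain ⟨h1, h2⟩ := of_operators (span_zz z hz) (Dp := fun p => Dp (idx p))
    (fun p => hD _) (operators_zz z hDz)
  refine ⟨h1, fun p => ?_⟩
  have := h2 (idx.symm p)
  rwa [Equiv.apply_symm_apply, sum_idx_symm] at this

theorem exists_operators
    (hz : Submodule.span B (Set.range fun i => KaehlerDifferential.D A B (z i)) = ⊤)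
    (hind : Indep A (zz z)) :
    ∃ Dp : (ι → ℕ) → (B →ₗ[A] B), (∀ p, ∃ k : ℕ, Diff16.IsDiffOpLE A B B B k (Dp p)) ∧
      ∀ p q : ι → ℕ, Dp p (∏ i, z i ^ q i) =
        ((∏ i, Nat.choose (q i) (p i) : ℕ) : B) * ∏ i, z i ^ (q i - p i) := by
  choose D hD hDz using exists_operator' (span_zz z hz) hind
  refine ⟨fun p => D (idx.symm p), fun p => ⟨_, hD _⟩, fun p q => ?_⟩
  rw [← prod_pow, hDz, val_eq]

theorem indep_of_diffSmooth (hB : _root_.PP16.IsDiffSmooth A B)
    (b : Module.Basis ι B (KaehlerDifferential A B))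
    (hb : ∀ i, b i = KaehlerDifferential.D A B (z i)) : Indep A (zz z) :=
  indep_of_isDiffSmooth hB (b.reindex (Fintype.equivFin ι)) fun k => by
    rw [Module.Basis.reindex_apply, hb]
    rfl

theorem exists_basis_of_indep
    (hz : Submodule.span B (Set.range fun i => KaehlerDifferential.D A B (z i)) = ⊤)
    (hind : Indep A (zz z)) :
    ∃ b : Module.Basis ι B (KaehlerDifferential A B), ∀ i, b i = KaehlerDifferential.D A B (z i) := by
  obtain ⟨b, hb⟩ := exists_basis (span_zz z hz) hind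
  refine ⟨b.reindex (Fintype.equivFin ι).symm, fun i => ?_⟩
  rw [Module.Basis.reindex_apply, hb]
  simp [zz]

end Groth.Agent.H80.PP.Reindex
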